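import Groth.Prelude.Def_DualLC
import Mathlib.RingTheory.Length
import Mathlib.Tactic.LinearCombination
import Mathlib.RingTheory.SimpleModule.Basic

/-!
# Independent families: splitting a factor, lengths
-/

set_option autoImplicit false

noncomputable section

universe u

namespace Groth.Agent.IndepSeq

variable {A : Type u} [CommRing A] {r : ℕ}

lemma span_update_le (f : Fin r → A) (j : Fin r) (g : A) :
    Ideal.span (Set.range (Function.update f j (f j * g))) ≤ Ideal.span (Set.range f) := by
  refine Ideal.span_le.2 ?_
  rintro _ ⟨i, rfl⟩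
  rcases eq_or_ne i j with rfl | h
  · rw [Function.update_self]; exact Ideal.mul_mem_right _ _ (Ideal.subset_span ⟨i, rfl⟩)
  · rw [Function.update_of_ne h]; exact Ideal.subset_span ⟨i, rfl⟩

theorem of_update (f : Fin r → A) (j : Fin r) (g : A)
    (h : Dual2.Independent (Function.update f j (f j * g))) : Dual2.Independent f := by
  classical
  intro a ha
  set f' := Function.update f j (f j * g) with hf'
  have hle := span_update_le f j g
  have hne : ∀ i ∈ Finset.univ.erase j, f' i = f i := fun i hi =>
    Function.update_of_ne (Finset.mem_erase.1 hi).1 _ _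
  have hj : f' j = f j * g := Function.update_self _ _ _
  have split : ∀ u : Fin r → A, ∑ i, u i = u j + ∑ i ∈ Finset.univ.erase j, u i :=
    fun u => (Finset.add_sum_erase _ _ (Finset.mem_univ j)).symm
  rw [split] at ha
  have haj : a j ∈ Ideal.span (Set.range f') := by
    have := h (fun i => if i = j then a i else a i * g) (by
      rw [split, if_pos rfl, hj, Finset.sum_congr rfl (fun i hi => by
        rw [if_neg (Finset.mem_erase.1 hi).1, hne i hi, show a i * g * f i = g * (a i * f i) by ring])]
      rw [← Finset.mul_sum]
      linear_combination g * ha) j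
    simpa using this
  obtain ⟨b, hb⟩ := (Submodule.mem_span_range_iff_exists_fun A).1 haj
  simp only [smul_eq_mul] at hb
  rw [split, hj, Finset.sum_congr rfl (fun i hi => by rw [hne i hi])] at hb
  intro i
  rcases eq_or_ne i j with rfl | hij
  · exact hle haj
  have h2 := h (fun i => if i = j then b j * f j else a i + b i * f j) (by
    rw [split, if_pos rfl, hj, Finset.sum_congr rfl (fun i hi => by
      rw [if_neg (Finset.mem_erase.1 hi).1, hne i hi, show (a i + b i * f j) * f i = a i * f i + f j * (b i * f i) by ring])]
    rw [Finset.sum_add_distrib, ← Finset.mul_sum]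
    linear_combination ha + f j * hb) i
  simp only [if_neg hij] at h2
  have hfj : b i * f j ∈ Ideal.span (Set.range f) := Ideal.mul_mem_left _ _ (Ideal.subset_span ⟨j, rfl⟩)
  exact (Ideal.add_mem_iff_left _ hfj).1 (hle h2)

theorem of_update' (f : Fin r → A) (j : Fin r) (g : A)
    (h : Dual2.Independent (Function.update f j (f j * g))) : Dual2.Independent (Function.update f j g) := by
  refine of_update (Function.update f j g) j (f j) ?_
  rwa [Function.update_idem, Function.update_self, mul_comm]

theorem length_split (f : Fin r → A) (j : Fin r) (g : A)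
    (h : Dual2.Independent (Function.update f j (f j * g))) :
    Module.length A (A ⧸ Ideal.span (Set.range (Function.update f j (f j * g)))) =
      Module.length A (A ⧸ Ideal.span (Set.range f)) + Module.length A (A ⧸ Ideal.span (Set.range (Function.update f j g))) := by
  classical
  set f' := Function.update f j (f j * g) with hf'
  set fg := Function.update f j g with hfg
  have split : ∀ u : Fin r → A, ∑ i, u i = u j + ∑ i ∈ Finset.univ.erase j, u i :=
    fun u => (Finset.add_sum_erase _ _ (Finset.mem_univ j)).symm
  let J := Ideal.span (Set.range fg)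
  let J' := Ideal.span (Set.range f')
  let K := Ideal.span (Set.range f)
  have hmul : J ≤ Submodule.comap (LinearMap.lsmul A A (f j)) J' := by
    refine Ideal.span_le.2 ?_
    rintro _ ⟨i, rfl⟩
    show f j * fg i ∈ J'
    rcases eq_or_ne i j with rfl | hij
    · rw [hfg, Function.update_self]
      exact Ideal.subset_span ⟨i, Function.update_self _ _ _⟩
    · rw [hfg, Function.update_of_ne hij]
      exact Ideal.mul_mem_left _ _ (Ideal.subset_span ⟨i, Function.update_of_ne hij _ _⟩)
  let μ : (A ⧸ J) →ₗ[A] (A ⧸ J') := Submodule.mapQ J J' (LinearMap.lsmul A A (f j)) hmul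
  have hle : J' ≤ K := span_update_le f j g
  let π : (A ⧸ J') →ₗ[A] (A ⧸ K) := Submodule.mapQ J' K LinearMap.id hle
  rw [add_comm]
  refine Module.length_eq_add_of_exact μ π ?_ ?_ ?_
  · rw [injective_iff_map_eq_zero]
    intro q hq
    obtain ⟨x, rfl⟩ := Submodule.Quotient.mk_surjective J q
    rw [Submodule.mapQ_apply, Submodule.Quotient.mk_eq_zero] at hq
    rw [Submodule.Quotient.mk_eq_zero]
    obtain ⟨c, hc⟩ := (Submodule.mem_span_range_iff_exists_fun A).1 (show f j * x ∈ Ideal.span (Set.range f') from hq)
    simp only [smul_eq_mul] at hc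
    have hne : ∀ i ∈ Finset.univ.erase j, f' i = f i := fun i hi =>
      Function.update_of_ne (Finset.mem_erase.1 hi).1 _ _
    have hj : f' j = f j * g := Function.update_self _ _ _
    rw [split, hj, Finset.sum_congr rfl (fun i hi => by rw [hne i hi])] at hc
    have h2 := h (fun i => if i = j then c j * g - x else c i * g) (by
      rw [split, if_pos rfl, hj, Finset.sum_congr rfl (fun i hi => by
        rw [if_neg (Finset.mem_erase.1 hi).1, hne i hi, show c i * g * f i = g * (c i * f i) by ring])]
      rw [← Finset.mul_sum]
      linear_combination g * hc) j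
    simp only [if_pos] at h2
    have hJ' : J' ≤ J := Ideal.span_le.2 (by
      rintro _ ⟨i, rfl⟩
      rcases eq_or_ne i j with rfl | hij
      · rw [hf', Function.update_self]; exact Ideal.mul_mem_left _ _ (Ideal.subset_span ⟨i, Function.update_self _ _ _⟩)
      · rw [hf', Function.update_of_ne hij]; exact Ideal.subset_span ⟨i, Function.update_of_ne hij _ _⟩)
    have hg : c j * g ∈ J := Ideal.mul_mem_left _ _ (Ideal.subset_span ⟨j, Function.update_self _ _ _⟩)
    have h3 := sub_mem hg (hJ' h2)
    rwa [sub_sub_cancel] at h3
  · intro q
    obtain ⟨x, rfl⟩ := Submodule.Quotient.mk_surjective K q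
    exact ⟨Submodule.Quotient.mk x, rfl⟩
  · intro q
    obtain ⟨x, rfl⟩ := Submodule.Quotient.mk_surjective J' q
    constructor
    · intro hq
      rw [Submodule.mapQ_apply, Submodule.Quotient.mk_eq_zero, LinearMap.id_apply] at hq
      obtain ⟨c, hc⟩ := (Submodule.mem_span_range_iff_exists_fun A).1 hq
      refine ⟨Submodule.Quotient.mk (c j), ?_⟩
      rw [Submodule.mapQ_apply, Submodule.Quotient.eq]
      show f j * c j - x ∈ J'
      simp only [smul_eq_mul] at hc
      rw [split] at hc
      rw [show f j * c j - x = -(∑ i ∈ Finset.univ.erase j, c i * f i) by linear_combination hc]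
      exact neg_mem (Submodule.sum_mem _ fun i hi => Ideal.mul_mem_left _ _
        (Ideal.subset_span ⟨i, Function.update_of_ne (Finset.mem_erase.1 hi).1 _ _⟩))
    · rintro ⟨p, hp⟩
      obtain ⟨y, rfl⟩ := Submodule.Quotient.mk_surjective J p
      rw [← hp, Submodule.mapQ_apply, Submodule.mapQ_apply, Submodule.Quotient.mk_eq_zero]
      exact Ideal.mul_mem_right _ _ (Ideal.subset_span ⟨j, rfl⟩)

theorem length_powers [IsLocalRing A] (x : Fin r → A) (hx : Ideal.span (Set.range x) = IsLocalRing.maximalIdeal A) :
    ∀ (n : ℕ) (e : Fin r → ℕ), ∑ i, e i ≤ n → (∀ i, 0 < e i) → Dual2.Independent (fun i => x i ^ e i) →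
      Module.length A (A ⧸ Ideal.span (Set.range (fun i => x i ^ e i))) = ∏ i, (e i : ℕ∞) := by
  classical
  intro n
  induction n with
  | zero =>
    intro e hs he _
    rcases isEmpty_or_nonempty (Fin r) with h | ⟨⟨i⟩⟩
    · have h0 : IsLocalRing.maximalIdeal A = ⊥ := by rw [← hx, Set.range_eq_empty, Ideal.span_empty]
      rw [Set.range_eq_empty, Ideal.span_empty, ← h0, Finset.univ_eq_empty, Finset.prod_empty]
      exact Module.length_eq_one_iff.2 (isSimpleModule_iff_isCoatom.2 (IsLocalRing.maximalIdeal.isMaximal A).out)
    · have := Finset.single_le_sum (fun i _ => Nat.zero_le (e i)) (Finset.mem_univ i)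
      have := he i
      omega
  | succ n ih =>
    intro e hs he hind
    by_cases h1 : ∀ i, e i = 1
    · have : (fun i => x i ^ e i) = x := funext fun i => by rw [h1 i, pow_one]
      rw [this, hx, Finset.prod_eq_one (fun i _ => by rw [h1 i]; rfl)]
      exact Module.length_eq_one_iff.2 (isSimpleModule_iff_isCoatom.2 (IsLocalRing.maximalIdeal.isMaximal A).out)
    push_neg at h1
    obtain ⟨j, hj⟩ := h1
    have hej : e j = 1 + (e j - 1) := by have := he j; omega
    let f := fun i => x i ^ Function.update e j 1 i
    have hf : Function.update f j (f j * x j ^ (e j - 1)) = fun i => x i ^ e i := funext fun i => by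
      rcases eq_or_ne i j with rfl | hij
      · simp only [f, Function.update_self]; rw [← pow_add, ← hej]
      · simp only [f, Function.update_of_ne hij]
    have hg : Function.update f j (x j ^ (e j - 1)) = fun i => x i ^ Function.update e j (e j - 1) i := funext fun i => by
      rcases eq_or_ne i j with rfl | hij
      · simp only [f, Function.update_self]
      · simp only [f, Function.update_of_ne hij]
    rw [← hf] at hind ⊢
    have hej2 : 2 ≤ e j := by have := he j; omega
    have hsum : ∀ v, ∑ i, Function.update e j v i = v + ∑ i ∈ Finset.univ.erase j, e i := fun v => by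
      rw [Finset.sum_update_of_mem (Finset.mem_univ j), Finset.sdiff_singleton_eq_erase]
    have hsum0 := (Finset.add_sum_erase Finset.univ e (Finset.mem_univ j)).symm
    rw [length_split f j _ hind, hg]
    rw [ih (Function.update e j 1) (by rw [hsum]; omega) (fun i => by
        rcases eq_or_ne i j with rfl | hij
        · simp
        · rw [Function.update_of_ne hij]; exact he i) (of_update f j _ hind),
      ih (Function.update e j (e j - 1)) (by rw [hsum]; omega) (fun i => by
        rcases eq_or_ne i j with rfl | hij
        · simp; omega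
        · rw [Function.update_of_ne hij]; exact he i) (hg ▸ of_update' f j _ hind)]
    have hprod : ∀ v : ℕ, ∏ i, ((Function.update e j v i : ℕ) : ℕ∞) = v * ∏ i ∈ Finset.univ.erase j, (e i : ℕ∞) := fun v => by
      rw [← Finset.mul_prod_erase _ _ (Finset.mem_univ j), Function.update_self]
      exact congrArg _ (Finset.prod_congr rfl fun i hi => by rw [Function.update_of_ne (Finset.mem_erase.1 hi).1])
    rw [hprod, hprod, ← add_mul, ← Finset.mul_prod_erase _ _ (Finset.mem_univ j), ← Nat.cast_add, ← hej]

end Groth.Agent.IndepSeq
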